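set_option autoImplicit false
namespace Cfsg.Agent.Lib.Helper6.TCD.U62X
noncomputable def QX (i : Nat) : Nat := Nat.land (Nat.shiftRight 0x2487ee0799a1998e6bac9e29c6449d23a87a3997e368aa51ace5793eb4a86105f28a94e628ca9487e4a8fa138027fa7df1769e07c9ce635f5791ef7369b7ba8e729bc8ba5ca5e318be4d565bf8b1b0a497f7adcf7520aa599954a1d709d2ab25086a02956586e9cca0a5e9a5c4ac237a71f896e09816939a9b7a55836096f5e660a89c944a3585d2186e6d58d09a05388f2876954c6a96557d975de336d2995d65279e3456278761c69f5159cdea916728ee70755be6ca4b9098c535db9a28563a4ca46a0716986e1e19fa77a9e80abaaf93a8f9ea1874e84845ff89a47990cf744e95acd182e86481cb48e149d9dd759ac99e568a1e83160d2de797649b904cb445a26991aaa1326e59d96aaa67a3dab5ed17c94a312b872089b9fe40ab19862195128706905d1782e643a2683855fa83ca4362496d9b5996016a2048951796675888658812e3392a6599b8c1928fddf975ad71c3b89dae9028d7c1290e5ec59a4680e7b2692c9f22b8a4d78e28b741c38929e242165084913c4b61cf88b5fd0fde93566c27aab7e5f4494e02617e4911ea951d63e9a5d981692a325d9f701b3174a2275e6556888315059e0668ea677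1de384917d97a181d755ce6601e556d8aa919062da9619a0510eb3b86f4002b1d9843d47a2d547304b14f170a757d389147f1735c96d59104551604d1264314e6bd2f5866f186126c48e88df315d0d528ed4d5100e14825562438df36aa95edf7081536719a3588666191655134060e0d93d5196a2d8ea5a185620f709cf01e0f21e4f33bd416247720caa2b01869ce46f4c864ca02351c374c43ed1842cfe4c1063190853c54378bd329946edc85c4115b8a5370881890a5716c2585b36cc778d0757905040d41f4f446c4c458b42a0b02acfd4f8732cc71514442ed491c0422a53919ca149d56190591548a544683653b488c224887264c043cbf2f8084d93722c9c2308447c214cdab0f83a6847f2245c1684e2b8473fc2d2e0461f8751b4fa128f92bd3f1ac300b0ec298740942434ce70f433198e814ce534823574511583c0d169178d03355a24d4b07d400bc29140ba10cb23f1434e8a705c1b1b04802d31050a32041c0748f4b46340c13464c91601e2f0f11a8061f0f61b80c2b41513469014e310082330350488030c071ec2e034720282a1049f01032214030dc2803802064160c400088260680f0244514801 (Nat.mul 10 (Nat.land i 1023))) 1023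
end Cfsg.Agent.Lib.Helper6.TCD.U62X
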